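import Cfsg.Agent.H796.RowF4
import Cfsg.Agent.H796.RowE8
import Cfsg.Agent.H408.Pron.Defs

/-!
# S2527: F4(q), E8(q), q odd (helper341): the elements of odd order of `N(S)` centralise the Sylow 2-subgroup `S`

The proof is helper796's proof of `OddRow` (H796/TorAbs, TorData, RowF4, RowE8) with a stronger conclusion.
-/

set_option autoImplicit false
set_option linter.unusedSectionVars false

namespace Cfsg.Agent.H341.PronTor

open Subgroup Cfsg.Agent.H796.TorRow Cfsg.Agent.H796.TorAbs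

universe u

/-- the elements of odd order of `N(S)` centralise `S` -/
def CentN (G : Type*) [Group G] : Prop :=
  ∃ S : Sylow 2 G, ∀ g ∈ normalizer ((S : Subgroup G) : Set G), Odd (orderOf g) →
    ∀ s ∈ (S : Subgroup G), g * s = s * g

theorem CentN.po {G : Type u} [Group G] [Finite G] (h : CentN G) (hC : Cfsg.Agent.H408.Pron.SC G) :
    Cfsg.Agent.H408.Pron.PO G := by
  obtain ⟨S, hS⟩ := h
  exact Cfsg.Agent.H408.Pron.PO.of_centralizes hC S hS

theorem CentN.selfN {G : Type u} [Group G] [Finite G] (h : CentN G) (hC : Cfsg.Agent.H408.Pron.SC G) :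
    Cfsg.Agent.QTNorm.SelfN G := by
  obtain ⟨S, hS⟩ := h
  exact Cfsg.Agent.H408.Pron.selfN_of_centralizes hC S hS

section

variable {G : Type*} [Group G] {N : Subgroup G} {W : Type*} [Group W] {l : ℕ} {r : ↥N →* W}
    {act : W →* Module.End ℤ (Fin l → ℤ)} {k : Type*} [Field k] {χ : G → (Fin l → ℤ) → k} {ζ : k}
    (H : Tor r act χ ζ)

include H

/-- **The elements of odd order of `N(S)` centralise `S`.** -/
theorem centN [Finite G] (hl : 2 ≤ l) (hidx : ¬ 2 ∣ N.index)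
    (hK : ∀ w, (∀ x, ∃ y, act w x - x = (2 : ℤ) • y) → w = 1 ∨ ∀ x, act w x = -x) {w : W} {n : ℕ}
    (hw : w ^ 2 ^ n = 1)
    (hJ : ∃ x₁, ∀ x, ∃ (m : ℤ) (y z : Fin l → ℤ), x = m • x₁ + (act w y - y) + (2 : ℤ) • z) :
    CentN G := by
  classical
  have : Fact (Nat.Prime 2) := ⟨Nat.prime_two⟩
  obtain ⟨p, hp, j, hj⟩ := H.exists_lift hw
  have hpp : IsPGroup 2 (zpowers p) := by
    rintro ⟨_, i, rfl⟩
    refine ⟨j, Subtype.ext ?_⟩
    show (p ^ i) ^ 2 ^ j = 1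
    rw [← zpow_natCast, ← zpow_mul, mul_comm, zpow_mul, zpow_natCast, hj, one_zpow]
  obtain ⟨Q, hQ⟩ := hpp.exists_le_sylow
  have hpQ : p ∈ Q := hQ (mem_zpowers p)
  have hP2 : IsPGroup 2 ((Q : Subgroup ↥N).map N.subtype) := Q.2.map _
  have hPi : ¬ 2 ∣ ((Q : Subgroup ↥N).map N.subtype).index := by
    rw [index_map_subtype, Nat.prime_two.dvd_mul]
    rintro (h | h)
    · exact Q.not_dvd_index h
    · exact hidx h
  obtain ⟨P, hP⟩ : ∃ P : Subgroup G, P = (Q : Subgroup ↥N).map N.subtype := ⟨_, rfl⟩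
  obtain ⟨A, hA⟩ : ∃ A : Subgroup G, A = ((Q : Subgroup ↥N) ⊓ r.ker).map N.subtype := ⟨_, rfl⟩
  have hPm : ∀ x, x ∈ P ↔ ∃ a : ↥N, a ∈ Q ∧ (a : G) = x := fun x => by rw [hP]; exact Iff.rfl
  have hAm : ∀ x, x ∈ A ↔ ∃ a : ↥N, (a ∈ Q ∧ r a = 1) ∧ (a : G) = x := fun x => by rw [hA]; exact Iff.rfl
  obtain ⟨ρ, hρ⟩ : ∃ ρ : G → W, ∀ a : ↥N, ρ a = r a := by
    refine ⟨fun g => if h : g ∈ N then r ⟨g, h⟩ else 1, fun a => ?_⟩
    simp
  have D : Dat P A act ρ χ ζ :=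
    { le := by
        intro x hx
        obtain ⟨a, ⟨ha, -⟩, rfl⟩ := (hAm x).1 hx
        exact (hPm _).2 ⟨a, ha, rfl⟩
      two := by rw [hP]; exact hP2
      conj := by
        intro x hx a ha
        obtain ⟨x, hxQ, rfl⟩ := (hPm x).1 hx
        obtain ⟨a, ⟨haQ, ha1⟩, rfl⟩ := (hAm a).1 ha
        refine (hAm _).2 ⟨x * a * x⁻¹, ⟨mul_mem (mul_mem hxQ haQ) (inv_mem hxQ), ?_⟩, rfl⟩
        rw [map_mul, map_mul, ha1, mul_one, map_inv, mul_inv_cancel]
      comm := by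
        intro a ha b hb
        obtain ⟨a, ⟨ha, ha1⟩, rfl⟩ := (hAm a).1 ha
        obtain ⟨b, ⟨hb, hb1⟩, rfl⟩ := (hAm b).1 hb
        exact congrArg Subtype.val (H.comm a b ha1 hb1)
      rho_mul := by
        intro x hx y hy
        obtain ⟨x, hx, rfl⟩ := (hPm x).1 hx
        obtain ⟨y, hy, rfl⟩ := (hPm y).1 hy
        rw [← Subgroup.coe_mul, hρ, hρ, hρ, map_mul]
      ker := by
        intro x hx h1
        obtain ⟨x, hxQ, rfl⟩ := (hPm x).1 hx
        rw [hρ] at h1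
        exact (hAm _).2 ⟨x, ⟨hxQ, h1⟩, rfl⟩
      ker' := by
        intro x hx
        obtain ⟨x, ⟨hx, hx1⟩, rfl⟩ := (hAm x).1 hx
        rw [hρ, hx1]
      mul := by
        intro a ha b hb x
        obtain ⟨a, ⟨ha, ha1⟩, rfl⟩ := (hAm a).1 ha
        obtain ⟨b, ⟨hb, hb1⟩, rfl⟩ := (hAm b).1 hb
        exact H.mul a b ha1 hb1 x
      add := by
        intro a ha x y
        obtain ⟨a, ⟨ha, ha1⟩, rfl⟩ := (hAm a).1 ha
        exact H.add a ha1 x y
      zero := by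
        intro a ha
        obtain ⟨a, ⟨ha, ha1⟩, rfl⟩ := (hAm a).1 ha
        exact H.zero a ha1
      inj := by
        intro a ha h
        obtain ⟨a, ⟨ha, ha1⟩, rfl⟩ := (hAm a).1 ha
        rw [H.inj a ha1 h]
        rfl
      chi_act := by
        intro x hx a ha y
        obtain ⟨x, hx, rfl⟩ := (hPm x).1 hx
        obtain ⟨a, ⟨ha, ha1⟩, rfl⟩ := (hAm a).1 ha
        rw [hρ]
        exact H.chi_act x a ha1 y
      prim := H.prim
      rich := by
        intro i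
        obtain ⟨t, ht, h1⟩ := H.rich i
        have hpow : ∀ n : ℕ, r (t ^ n) = 1 ∧ ∀ x, χ ((t ^ n : ↥N) : G) x = (ζ ^ (x i)) ^ n := by
          intro n
          induction n with
          | zero =>
            refine ⟨by rw [pow_zero, map_one], fun x => ?_⟩
            have h2 := H.mul 1 t (map_one r) ht x
            rw [Subgroup.coe_one, one_mul] at h2
            have h3 : χ t x ≠ 0 := by
              rw [h1]
              exact zpow_ne_zero _ (H.prim.ne_zero (by norm_num))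
            rw [pow_zero, pow_zero, Subgroup.coe_one]
            exact (mul_eq_right₀ h3).1 h2.symm
          | succ n ih =>
            refine ⟨by rw [pow_succ, map_mul, ih.1, ht, one_mul], fun x => ?_⟩
            rw [pow_succ, Subgroup.coe_mul, H.mul _ _ ih.1 ht, ih.2, h1, pow_succ]
        have h4 : t ^ 4 = 1 := by
          refine H.inj _ (hpow 4).1 fun x => ?_
          rw [(hpow 4).2, ← zpow_natCast, ← zpow_mul, mul_comm, zpow_mul, zpow_natCast, H.prim.pow_eq_one, one_zpow]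
        exact ⟨t, (hAm _).2 ⟨t, ⟨H.mem_sylow ht h4 Q, ht⟩, rfl⟩, h1⟩ }
  have hmain := fun {g : G} => D.main hl hK (g := g) ⟨p, (hPm _).2 ⟨p, hpQ, rfl⟩, by rw [hρ, hp]; exact hJ⟩
  refine ⟨hP2.toSylow hPi, fun g hg ho s hs => ?_⟩
  have hs' : s ∈ P := by rw [hP]; exact hs
  rw [IsPGroup.toSylow_coe, ← hP] at hg
  have h1 := hmain ho (fun x hx => (mem_normalizer_iff.1 hg x).1 hx) s hs'
  calc g * s = g * s * g⁻¹ * g := by group
    _ = s * g := by rw [h1]


end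

open CoxeterSystem Cfsg Cfsg.Lie Cfsg.Lie.ChevalleyDatum
open Cfsg.Agent.ChevalleyStructure Cfsg.Agent.ChevalleyStructure.Elts Cfsg.Agent.ChevalleyStructure.CoxeterGeom
  Cfsg.Agent.ChevalleyStructure.CoxeterGeomTypes Cfsg.Agent.ChevalleyStructure.NPerm
  Cfsg.Agent.ChevalleyStructure.RootVec
open Cfsg.Agent.Tits.Roots Cfsg.Agent.Tits.Core Cfsg.Agent.Nodes Cfsg.Agent.Nodes.Reps Cfsg.Agent.Nodes.BNOf
  Cfsg.Agent.Nodes.RGDChev
open Cfsg.Agent.H129.TorusChar Cfsg.Agent.H129.WData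
open Cfsg.Agent.H796.TorInst Cfsg.Agent.H796.TorData

/-- the group of type `D` -/
theorem cent_of {D : ChevalleyDatum} {l : ℕ} {M : CoxeterMatrix (Fin l)} (hp : IsType D l M)
    {W : Type*} [Group W] (cs : CoxeterSystem M W) [Finite W] {F : Type u} [Field F] [Fintype F] {q : ℕ}
    (hq : Fintype.card F = q) (hodd : Odd q) {B' : Fin l → Fin l → ℤ} (hB : InvC D l 1 B') (hl : 2 ≤ l)
    (hminus : ∃ w0 : W, ∀ x, rep cs hp.isCartan w0 x = -x)
    (hK : ∀ w : W, (∀ x, ∃ y, rep cs hp.isCartan w x - x = (2 : ℤ) • y) →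
      w = 1 ∨ ∀ x, rep cs hp.isCartan w x = -x) {w : W} {n : ℕ} (hw : w ^ 2 ^ n = 1)
    (hJ : ∃ x₁, ∀ x, ∃ (m : ℤ) (y z : Fin l → ℤ),
      x = m • x₁ + (rep cs hp.isCartan w y - y) + (2 : ℤ) • z)
    (hcard : ∀ m : ℕ, 4 ∣ m → m ≠ 0 → (q = m + 1 ∨ q + 1 = m) → ∀ c : ℕ,
      m ^ l * Nat.card W * c = Nat.card ↥(D.group F) → ¬ 2 ∣ c) : CentN ↥(D.group F) := by
  have : Finite ↥(D.group F) := inferInstance
  have hq1 : 1 < q := by rw [← hq]; exact Fintype.one_lt_card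
  obtain ⟨m, w0, s, hs, hw0, hms, h4, hm0, hqm⟩ : ∃ (m : ℕ) (w0 : W) (s : ℤ), (s = 1 ∨ s = -1) ∧
      (∀ x, rep cs hp.isCartan w0 x = s • x) ∧ ((m : ℤ) = q - s) ∧ 4 ∣ m ∧ m ≠ 0 ∧ (q = m + 1 ∨ q + 1 = m) := by
    obtain ⟨c, hc⟩ := hodd
    rcases Nat.even_or_odd' c with ⟨d, hd | hd⟩
    · refine ⟨4 * d, 1, 1, Or.inl rfl, fun x => by rw [map_one, Module.End.one_apply, one_smul], ?_,
        ⟨d, rfl⟩, by omega, by omega⟩
      push_cast
      omega
    · obtain ⟨w0, hw0⟩ := hminus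
      refine ⟨4 * (d + 1), w0, -1, Or.inr rfl, fun x => by rw [hw0, neg_one_smul], ?_, ⟨d + 1, rfl⟩, by omega,
        by omega⟩
      push_cast
      omega
  obtain ⟨N, r, χ, ζ, H, hN⟩ := exists_tor hp cs hq hB hs hw0 hms h4 hm0
  refine centN H hl (hcard m h4 hm0 hqm _ ?_) hK hw hJ
  rw [← hN, N.card_mul_index]

section

open Cfsg.Agent.H796.RowF4

/-- `F4` -/
theorem cent_F4 {F : Type u} [Field F] [Fintype F] (hodd : Odd (Fintype.card F)) :
    CentN ↥(chevF4.group F) := by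
  obtain ⟨q, hq⟩ : ∃ q, Fintype.card F = q := ⟨_, rfl⟩
  rw [hq] at hodd
  have hW : Nat.card CoxeterMatrix.F₄.Group = 1152 :=
    Cfsg.Agent.S1092.result (⟨4, CoxeterMatrix.F₄⟩, 1152) (by simp)
  have : Finite CoxeterMatrix.F₄.Group := Nat.finite_of_card_ne_zero (by rw [hW]; norm_num)
  obtain ⟨cs, -⟩ : ∃ cs : CoxeterSystem CoxeterMatrix.F₄ CoxeterMatrix.F₄.Group, True :=
    ⟨CoxeterMatrix.F₄.toCoxeterSystem, trivial⟩
  have h1 := chain_rep isType cs hA Lw_ok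
  have h2 := rep_mul_mat isType cs h1 h1 hX2
  have h4 := rep_mul_mat isType cs h2 h2 hX4
  have h8 := rep_mul_mat isType cs h4 h4 hX8
  have c1 := chain_rep isType cs hA Lc_ok
  have c2 := rep_mul_mat isType cs c1 c1 hC2
  have c4 := rep_mul_mat isType cs c2 c2 hC4
  have c6 := rep_mul_mat isType cs c4 c2 hC6
  have hw8 := eq_one_of_mat isType cs h8 hX8'
  refine cent_of isType cs hq hodd invC_F4 (by norm_num) ⟨_, neg_of_mat isType cs c6 hC6'⟩
    (hK_of isType cs hKOK (by norm_num)) (w := cs.wordProd (Lw.map Prod.fst)) (n := 3) ?_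
    (hJ_of isType cs h1 hJ) ?_
  · have e : ∀ w : CoxeterMatrix.F₄.Group, w * w * (w * w) * (w * w * (w * w)) = w ^ 2 ^ 3 := fun w => by
      show _ = w ^ 8
      simp only [pow_succ, pow_zero, one_mul, mul_assoc]
    rw [← e]
    exact hw8
  · intro m hm hm0 hqm c hc h2c
    refine odd_of_card (l := 4) hm hm0 hqm [2, 6, 8, 12] (by decide) rfl (c := c) (N := 24) ?_ h2c
    rw [S1062.result hq, hW] at hc
    simp only [List.prod_cons, List.prod_nil, List.map_cons, List.map_nil]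
    calc m ^ 4 * (2 * (6 * (8 * (12 * 1)))) * c = m ^ 4 * 1152 * c := by ring
      _ = q ^ 24 * (q ^ 2 - 1) * (q ^ 6 - 1) * (q ^ 8 - 1) * (q ^ 12 - 1) := hc
      _ = _ := by ring

end

section

open Cfsg.Agent.H796.RowE8

/-- `E8` -/
theorem cent_E8 {F : Type u} [Field F] [Fintype F] (hodd : Odd (Fintype.card F)) :
    CentN ↥(chevE8.group F) := by
  obtain ⟨q, hq⟩ : ∃ q, Fintype.card F = q := ⟨_, rfl⟩
  rw [hq] at hodd
  have hW : Nat.card CoxeterMatrix.E₈.Group = 696729600 :=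
    Cfsg.Agent.S1093.result (⟨8, CoxeterMatrix.E₈⟩, 696729600) (by simp)
  have : Finite CoxeterMatrix.E₈.Group := Nat.finite_of_card_ne_zero (by rw [hW]; norm_num)
  obtain ⟨cs, -⟩ : ∃ cs : CoxeterSystem CoxeterMatrix.E₈ CoxeterMatrix.E₈.Group, True :=
    ⟨CoxeterMatrix.E₈.toCoxeterSystem, trivial⟩
  have h1 := chain_rep isType cs hA Lw_ok
  have h2 := rep_mul_mat isType cs h1 h1 hX2
  have h4 := rep_mul_mat isType cs h2 h2 hX4
  have h8 := rep_mul_mat isType cs h4 h4 hX8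
  have c1 := chain_rep isType cs hA Lc_ok
  have c2 := rep_mul_mat isType cs c1 c1 hC2
  have c4 := rep_mul_mat isType cs c2 c2 hC4
  have c3 := rep_mul_mat isType cs c2 c1 hC3
  have c7 := rep_mul_mat isType cs c4 c3 hC7
  have c8 := rep_mul_mat isType cs c4 c4 hC8
  have c15 := rep_mul_mat isType cs c8 c7 hC15
  have hw8 := eq_one_of_mat isType cs h8 hX8'
  refine cent_of isType cs hq hodd invC_E8 (by norm_num) ⟨_, neg_of_mat isType cs c15 hC15'⟩
    (hK_of isType cs hKOK (by norm_num)) (w := cs.wordProd (Lw.map Prod.fst)) (n := 3) ?_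
    (hJ_of isType cs h1 hJ) ?_
  · have e : ∀ w : CoxeterMatrix.E₈.Group, w * w * (w * w) * (w * w * (w * w)) = w ^ 2 ^ 3 := fun w => by
      show _ = w ^ 8
      simp only [pow_succ, pow_zero, one_mul, mul_assoc]
    rw [← e]
    exact hw8
  · intro m hm hm0 hqm c hc h2c
    refine odd_of_card (l := 8) hm hm0 hqm [2, 8, 12, 14, 18, 20, 24, 30] (by decide) rfl (c := c) (N := 120) ?_ h2c
    rw [S1065.result hq, hW] at hc
    simp only [List.prod_cons, List.prod_nil, List.map_cons, List.map_nil]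
    calc m ^ 8 * (2 * (8 * (12 * (14 * (18 * (20 * (24 * (30 * 1)))))))) * c = m ^ 8 * 696729600 * c := by ring
      _ = q ^ 120 * (q ^ 2 - 1) * (q ^ 8 - 1) * (q ^ 12 - 1) * (q ^ 14 - 1) * (q ^ 18 - 1) * (q ^ 20 - 1) *
        (q ^ 24 - 1) * (q ^ 30 - 1) := hc
      _ = _ := by ring

end

/-- **`F₄(q)`, `q` odd** -/
theorem selfN_F4 {F : Type u} [Field F] [Fintype F] (hodd : Odd (Fintype.card F))
    (hC : Cfsg.Agent.H408.Pron.SC ↥(chevF4.group F)) : Cfsg.Agent.QTNorm.SelfN ↥(chevF4.group F) :=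
  (cent_F4 hodd).selfN hC

/-- **`E₈(q)`, `q` odd** -/
theorem selfN_E8 {F : Type u} [Field F] [Fintype F] (hodd : Odd (Fintype.card F))
    (hC : Cfsg.Agent.H408.Pron.SC ↥(chevE8.group F)) : Cfsg.Agent.QTNorm.SelfN ↥(chevE8.group F) :=
  (cent_E8 hodd).selfN hC

/-- **`F₄(q)`, `q` odd** -/
theorem po_F4 {F : Type u} [Field F] [Fintype F] (hodd : Odd (Fintype.card F))
    (hC : Cfsg.Agent.H408.Pron.SC ↥(chevF4.group F)) : Cfsg.Agent.H408.Pron.PO ↥(chevF4.group F) :=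
  (cent_F4 hodd).po hC

/-- **`E₈(q)`, `q` odd** -/
theorem po_E8 {F : Type u} [Field F] [Fintype F] (hodd : Odd (Fintype.card F))
    (hC : Cfsg.Agent.H408.Pron.SC ↥(chevE8.group F)) : Cfsg.Agent.H408.Pron.PO ↥(chevE8.group F) :=
  (cent_E8 hodd).po hC

end Cfsg.Agent.H341.PronTor
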